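import Mathlib

/-! # integrality of characteristic polynomial coefficients -/

set_option autoImplicit false
universe u

open TensorProduct Polynomial

namespace Groth.Agent.CharpolyInt

theorem isIntegral_coeff (A : Type u) [CommRing A] (K : Type u) [Field K] [Algebra A K]
    (E : Type u) [AddCommGroup E] [Module A E] [Module.Finite A E]
    (u : E →ₗ[A] E) (i : ℕ) : IsIntegral A (((u.baseChange K).charpoly).coeff i) := by
  classical
  let L := AlgebraicClosure K
  obtain ⟨p, hp, hp0⟩ := LinearMap.exists_monic_and_aeval_eq_zero A u
  set v := u.baseChange K with hv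
  have hv0 : aeval v (p.map (algebraMap A K)) = 0 := by
    rw [aeval_map_algebraMap, hv, show u.baseChange K = Module.End.baseChangeHom A K E u from rfl,
      aeval_algHom_apply, hp0, map_zero]
  set w := v.baseChange L with hw
  have hw0 : aeval w ((p.map (algebraMap A K)).map (algebraMap K L)) = 0 := by
    rw [aeval_map_algebraMap, hw, show v.baseChange L = Module.End.baseChangeHom K L _ v from rfl,
      aeval_algHom_apply, hv0, map_zero]
  have hchar : w.charpoly = v.charpoly.map (algebraMap K L) := LinearMap.charpoly_baseChange v (A := L)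
  have hroot : ∀ x ∈ w.charpoly.roots, IsIntegral A x := fun x hx => by
    have h1 : w.charpoly.IsRoot x := (mem_roots (LinearMap.charpoly_monic w).ne_zero).1 hx
    have h2 : Module.End.HasEigenvalue w x := (Module.End.hasEigenvalue_iff_isRoot_charpoly w x).2 h1
    have h3 := (Module.End.hasEigenvalue_iff_isRoot).1 h2
    have h4 := h3.dvd (minpoly.dvd L w hw0)
    rw [Polynomial.map_map, ← IsScalarTower.algebraMap_eq, IsRoot, eval_map] at h4
    exact ⟨p, hp, h4⟩
  have hsplit : w.charpoly.Splits := IsAlgClosed.splits _
  have hprod := hsplit.eq_prod_roots_of_monic (LinearMap.charpoly_monic w)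
  let C' := integralClosure A L
  have hmem : w.charpoly ∈ Polynomial.lifts C'.val.toRingHom := by
    rw [hprod]
    refine multiset_prod_mem _ fun q hq => ?_
    obtain ⟨x, hx, rfl⟩ := Multiset.mem_map.1 hq
    refine ⟨X - C (⟨x, hroot x hx⟩ : C'), ?_⟩
    simp
  obtain ⟨c, hc⟩ := (Polynomial.lifts_iff_coeff_lifts _).1 hmem i
  have h5 : IsIntegral A (w.charpoly.coeff i) := hc ▸ c.2
  rw [hchar, coeff_map] at h5
  exact (isIntegral_algHom_iff (IsScalarTower.toAlgHom A K L) (algebraMap K L).injective).1 h5

/-- an element whose inverse is integral is a unit -/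
theorem isUnit_of_integral_inv {A K : Type u} [CommRing A] [CommRing K] [Algebra A K]
    (hinj : Function.Injective (algebraMap A K)) {a : A} {b : K}
    (hb : IsIntegral A b) (hab : algebraMap A K a * b = 1) : IsUnit a := by
  obtain ⟨p, hp, hp0⟩ := hb
  have key : algebraMap A K (a * (-(∑ i ∈ Finset.range p.natDegree, p.coeff i * a ^ (p.natDegree - 1 - i)))) = 1 := by
    have h1 : aeval b p = 0 := hp0
    rw [aeval_eq_sum_range, Finset.sum_range_succ, hp.coeff_natDegree, one_smul] at h1
    have h2 := congrArg (fun z => algebraMap A K a ^ p.natDegree * z) h1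
    simp only [mul_add, Finset.mul_sum, mul_zero] at h2
    rw [← mul_pow, hab, one_pow, add_eq_zero_iff_neg_eq] at h2
    rw [← h2, mul_neg, map_neg, Finset.mul_sum, map_sum, neg_inj]
    refine Finset.sum_congr rfl fun i hi => ?_
    have hi' := Finset.mem_range.1 hi
    rw [Algebra.smul_def, map_mul, map_mul, map_pow,
      show algebraMap A K a ^ p.natDegree = algebraMap A K a * algebraMap A K a ^ (p.natDegree - 1 - i) * algebraMap A K a ^ i by
        rw [← pow_succ', ← pow_add]; congr 1; omega]
    calc algebraMap A K a * (algebraMap A K (p.coeff i) * algebraMap A K a ^ (p.natDegree - 1 - i))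
        = algebraMap A K a * algebraMap A K a ^ (p.natDegree - 1 - i) * algebraMap A K (p.coeff i) * (algebraMap A K a * b) ^ i := by
          rw [hab]; ring
      _ = _ := by ring
  refine IsUnit.of_mul_eq_one _ (hinj (key.trans (map_one _).symm))

end Groth.Agent.CharpolyInt
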